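import Groth.Agent.FunMorKer.Projection
import Groth.Agent.CohBase.RpushAb
import Groth.Agent.CohBase.AffinePush
import Groth.Agent.CohBase.Modules
import Groth.Agent.CohBase.RelAmpleVanish

/-!
# Acyclicity of kernels after base change along affine morphisms
-/

set_option autoImplicit false

universe u

open CategoryTheory CategoryTheory.Limits AlgebraicGeometry Opposite

noncomputable section

namespace Groth.FunMorKer

variable {X Y P : Scheme.{u}}

theorem subsingleton_H'_of_iso {M N : P.Modules} (e : M ≅ N) (n : ℕ) (W : P.Opens)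
    [h : Subsingleton (Sheaf.H' (Groth.CohBase.abSheaf N) n W : Type u)] :
    Subsingleton (Sheaf.H' (Groth.CohBase.abSheaf M) n W : Type u) :=
  (((Sheaf.cohomologyPresheafFunctor _ n).mapIso ((Groth.CohBase.toAbF P).mapIso e)).app
    (op W)).addCommGroupIsoToAddEquiv.toEquiv.subsingleton

/-- Sections of higher direct images over affines are cohomology of preimages. -/
theorem nonempty_Rpush_sections (f : P ⟶ Y) [QuasiCompact f] [QuasiSeparated f]
    [HasInjectiveResolutions P.Modules] (M : P.Modules) [M.IsQuasicoherent] (p : ℕ)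
    {W : Y.Opens} (hW : IsAffineOpen W) :
    Nonempty (Γ((Coh.Rpush f p).obj M, W) ≃+
      (Sheaf.H' (Groth.CohBase.abSheaf M) p (f ⁻¹ᵁ W) : Type u)) := by
  obtain ⟨a⟩ := Groth.CohBase.nonempty_toAb_Rpush_iso f (M := M) p
  obtain ⟨b⟩ := Groth.CohBase.nonempty_RpushAb_sections f (M := M) p hW
  exact ⟨((sheafToPresheaf _ _ ⋙ (evaluation _ _).obj (op W)).mapIso
    a).addCommGroupIsoToAddEquiv.trans b⟩

theorem isZero_Rpush_of_cover (f : P ⟶ Y) [QuasiCompact f] [QuasiSeparated f]
    [HasInjectiveResolutions P.Modules] (M : P.Modules) [M.IsQuasicoherent] (p : ℕ)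
    {ι : Type*} (W : ι → Y.Opens) (hW : ∀ i, IsAffineOpen (W i)) (hcov : ⨆ i, W i = ⊤)
    (h : ∀ i, Subsingleton (Sheaf.H' (Groth.CohBase.abSheaf M) p (f ⁻¹ᵁ W i) : Type u)) :
    IsZero ((Coh.Rpush f p).obj M) := by
  haveI := Groth.CohBase.isQCoh_Rpush f (M := M) p
  refine Groth.CohBase.isZero_of_sections_cover _ W hW hcov fun i => ?_
  obtain ⟨e⟩ := nonempty_Rpush_sections f M p (hW i)
  haveI := h i
  exact e.toEquiv.subsingleton

theorem subsingleton_H'_of_isZero_Rpush (f : P ⟶ Y) [QuasiCompact f] [QuasiSeparated f]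
    [HasInjectiveResolutions P.Modules] (M : P.Modules) [M.IsQuasicoherent] (p : ℕ)
    (h : IsZero ((Coh.Rpush f p).obj M)) {W : Y.Opens} (hW : IsAffineOpen W) :
    Subsingleton (Sheaf.H' (Groth.CohBase.abSheaf M) p (f ⁻¹ᵁ W) : Type u) := by
  obtain ⟨e⟩ := nonempty_Rpush_sections f M p hW
  haveI : Subsingleton Γ((Coh.Rpush f p).obj M, W) :=
    subsingleton_of_forall_eq 0 fun z => by
      have h1 : z = (𝟙 ((Coh.Rpush f p).obj M) : _ ⟶ _).app W z := by simp
      rw [h1, (IsZero.iff_id_eq_zero _).1 h]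
      simp
  exact e.symm.toEquiv.subsingleton

/-- Base change of an acyclic kernel along an affine morphism is acyclic. -/
theorem subsingleton_H'_kernel {U A : Scheme.{u}} {u : U ⟶ A} {h : U ⟶ P} {g : A ⟶ X} {p : P ⟶ X}
    (hsq : IsPullback u h g p) [IsAffineHom g] (q : P ⟶ Y) [QuasiCompact q] [QuasiSeparated q]
    [HasInjectiveResolutions P.Modules] (K : P.Modules) [K.IsQuasicoherent] (n : ℕ)
    (hKac : ∀ M : X.Modules, Coh.IsQCoh M →
      IsZero ((Coh.Rpush q n).obj (CohB1.tensorMod ((Scheme.Modules.pullback p).obj M) K)))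
    (F : A.Modules) [F.IsQuasicoherent] {V : Y.Opens} (hV : IsAffineOpen V) :
    Subsingleton (Sheaf.H' (Groth.CohBase.abSheaf (CohB1.tensorMod
      ((Scheme.Modules.pullback u).obj F) ((Scheme.Modules.pullback h).obj K))) n
        (h ⁻¹ᵁ (q ⁻¹ᵁ V)) : Type u) := by
  haveI : IsAffineHom h := MorphismProperty.of_isPullback hsq inferInstance
  haveI hu : ((Scheme.Modules.pullback u).obj F).IsQuasicoherent := Groth.QCohMod.isQCoh_pullback_obj u F
  haveI := Groth.QCohMod.isQCoh_pullback_obj h K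
  haveI := Groth.QCohMod.isQCoh_pushforward F g
  haveI := Groth.QCohMod.isQCoh_pullback_obj p ((Scheme.Modules.pushforward g).obj F)
  haveI := Groth.QCohMod.isQCoh_tensorMod
    (M := (Scheme.Modules.pullback p).obj ((Scheme.Modules.pushforward g).obj F)) (N := K)
  haveI := Groth.QCohMod.isQCoh_tensorMod
    (M := (Scheme.Modules.pullback u).obj F) (N := (Scheme.Modules.pullback h).obj K)
  obtain ⟨e⟩ := (Groth.CohBase.pushAcyclic_of_isAffineHom h (CohB1.tensorMod
    ((Scheme.Modules.pullback u).obj F) ((Scheme.Modules.pullback h).obj K))).nonempty_equiv_H' n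
      (q ⁻¹ᵁ V)
  let iU : (Scheme.Modules.pushforward h).obj (CohB1.tensorMod
      ((Scheme.Modules.pullback u).obj F) ((Scheme.Modules.pullback h).obj K)) ≅
      CohB1.tensorMod ((Scheme.Modules.pullback p).obj ((Scheme.Modules.pushforward g).obj F)) K :=
    ((projIso h K).app ⟨(Scheme.Modules.pullback u).obj F, hu⟩).symm ≪≫
      (DCoh.tensorRightMod K).mapIso ((bcIso hsq).app ⟨F, ‹F.IsQuasicoherent›⟩).symm
  haveI := subsingleton_H'_of_isZero_Rpush q _ n
    (hKac ((Scheme.Modules.pushforward g).obj F) ‹_›) hV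
  have h2 := subsingleton_H'_of_iso iU n (q ⁻¹ᵁ V)
  exact @Equiv.subsingleton _ _ e.symm.toEquiv h2

end Groth.FunMorKer
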