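import Groth.Agent.Ega2Proj.PushColim
import Groth.Agent.CohFin.PushAffine
import Groth.Agent.QCohMod.QCohCatAbelian
import Groth.Agent.QCohMod.PullbackQCoh
import Groth.Agent.QCohMod.Tensor
import Groth.Agent.Misc4.HasRSheafHom
import Groth.Agent.DerivedCoh.KFlat.SchemeResolution
import Groth.Prelude.Def_DDual2
import Groth.Prelude.Def_QCohCat

/-!
# Functors given by kernels: right exactness and compatibility with sums
-/

set_option autoImplicit false

universe u

open CategoryTheory CategoryTheory.Limits AlgebraicGeometry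

noncomputable section

namespace Groth.FunMorKer

variable {X : Scheme.{u}}

/-- `- ⊗ K` as the flipped bifunctor. -/
def tensorRightIso (K : X.Modules) :
    (DCoh.tensorBi (X := X)).flip.obj K ≅ DCoh.tensorRightMod K :=
  NatIso.ofComponents (fun _ => Iso.refl _) fun _ =>
    (Category.comp_id _).trans (Category.id_comp _).symm

instance preservesColimitsOfShape_tensorRight {J : Type u} [SmallCategory J] (K : X.Modules) :
    PreservesColimitsOfShape J (DCoh.tensorRightMod K) := by
  haveI : PreservesColimitsOfShape J ((DCoh.tensorBi (X := X)).flip.obj K) :=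
    Groth.Misc4.HasRSheafHom.preservesColimitsOfShape_flip K
  exact preservesColimitsOfShape_of_natIso (tensorRightIso K)

instance preservesFiniteColimits_tensorRight (K : X.Modules) :
    PreservesFiniteColimits (DCoh.tensorRightMod K) :=
  ⟨fun J _ _ => by
    haveI : PreservesColimitsOfShape J ((DCoh.tensorBi (X := X)).flip.obj K) :=
      Groth.DerivedCoh.KFlat.preservesColimitsOfShape_tensorBi_flip K
    exact preservesColimitsOfShape_of_natIso (tensorRightIso K)⟩

variable {Y : Scheme.{u}}

theorem preservesColimitsOfShape_discrete_push (q : X ⟶ Y) [IsAffineHom q] (J : Type u) :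
    PreservesColimitsOfShape (Discrete J)
      ((QCohCat.isQCoh X).ι ⋙ Scheme.Modules.pushforward q) := by
  refine ⟨fun {D} => ?_⟩
  suffices h : PreservesColimit (Discrete.functor (D.obj ∘ Discrete.mk))
      ((QCohCat.isQCoh X).ι ⋙ Scheme.Modules.pushforward q) from
    @preservesColimit_of_iso_diagram _ _ _ _ _ _ _ D _ Discrete.natIsoFunctor.symm h
  haveI : ∀ j, ((QCohCat.isQCoh X).ι.obj (D.obj ⟨j⟩)).IsQuasicoherent := fun j => (D.obj ⟨j⟩).2
  haveI := Groth.Ega2Proj.PushColim.isIso_sigmaComparison q
    fun j => (QCohCat.isQCoh X).ι.obj (D.obj ⟨j⟩)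
  haveI : PreservesColimit (Discrete.functor fun j => (QCohCat.isQCoh X).ι.obj (D.obj ⟨j⟩))
      (Scheme.Modules.pushforward q) := PreservesCoproduct.of_iso_comparison _ _
  haveI : PreservesColimit (Discrete.functor (D.obj ∘ Discrete.mk) ⋙ (QCohCat.isQCoh X).ι)
      (Scheme.Modules.pushforward q) :=
    preservesColimit_of_iso_diagram (K₁ := Discrete.functor fun j =>
      (QCohCat.isQCoh X).ι.obj (D.obj ⟨j⟩)) _ (Discrete.natIso fun _ => Iso.refl _)
  exact comp_preservesColimit _ _

theorem exact_push (q : X ⟶ Y) [IsAffineHom q] :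
    PreservesFiniteLimits ((QCohCat.isQCoh X).ι ⋙ Scheme.Modules.pushforward q) ∧
      PreservesFiniteColimits ((QCohCat.isQCoh X).ι ⋙ Scheme.Modules.pushforward q) := by
  haveI : PreservesFiniteColimits (QCohCat.isQCoh X).ι :=
    PreservesColimitsOfSize.preservesFiniteColimits _
  refine ((Functor.exact_tfae ((QCohCat.isQCoh X).ι ⋙ Scheme.Modules.pushforward q)).out 0 3).1
    fun S hS => ?_
  have h1 : (S.map (QCohCat.isQCoh X).ι).ShortExact := hS.map_of_exact _
  haveI : (S.map (QCohCat.isQCoh X).ι).X₁.IsQuasicoherent := S.X₁.2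
  haveI : (S.map (QCohCat.isQCoh X).ι).X₂.IsQuasicoherent := S.X₂.2
  haveI : (S.map (QCohCat.isQCoh X).ι).X₃.IsQuasicoherent := S.X₃.2
  exact Groth.CohFin.shortExact_push_affine q h1

variable {P : Scheme.{u}} (p : P ⟶ X) (q : P ⟶ Y) (K : P.Modules) [hK : K.IsQuasicoherent]

/-- The kernel functor with values in quasi-coherent modules on the product. -/
def kerQ : QCohCat.QCoh X ⥤ QCohCat.QCoh P :=
  (QCohCat.isQCoh P).lift
    ((QCohCat.isQCoh X).ι ⋙ Scheme.Modules.pullback p ⋙ DCoh.tensorRightMod K) fun M => by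
    haveI : M.obj.IsQuasicoherent := M.2
    haveI := Groth.QCohMod.isQCoh_pullback_obj p M.obj
    exact Groth.QCohMod.isQCoh_tensorMod (M := (Scheme.Modules.pullback p).obj M.obj) (N := K)

theorem preservesColimitsOfShape_kerQ (J : Type u) [SmallCategory J] :
    PreservesColimitsOfShape J (kerQ p K) := by
  haveI : PreservesColimitsOfSize.{u, u} (Scheme.Modules.pullback p) :=
    (Scheme.Modules.pullbackPushforwardAdjunction p).leftAdjoint_preservesColimits
  haveI : PreservesColimitsOfShape J (kerQ p K ⋙ (QCohCat.isQCoh P).ι) :=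
    inferInstanceAs (PreservesColimitsOfShape J
      ((QCohCat.isQCoh X).ι ⋙ Scheme.Modules.pullback p ⋙ DCoh.tensorRightMod K))
  exact preservesColimitsOfShape_of_reflects_of_preserves (kerQ p K) (QCohCat.isQCoh P).ι

theorem preservesFiniteColimits_kerQ : PreservesFiniteColimits (kerQ p K) := by
  haveI : PreservesColimitsOfSize.{u, u} (Scheme.Modules.pullback p) :=
    (Scheme.Modules.pullbackPushforwardAdjunction p).leftAdjoint_preservesColimits
  haveI : PreservesFiniteColimits (Scheme.Modules.pullback p) :=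
    PreservesColimitsOfSize.preservesFiniteColimits _
  haveI : PreservesFiniteColimits (QCohCat.isQCoh X).ι :=
    PreservesColimitsOfSize.preservesFiniteColimits _
  haveI : PreservesFiniteColimits (Scheme.Modules.pullback p ⋙ DCoh.tensorRightMod K) :=
    comp_preservesFiniteColimits _ _
  haveI : PreservesFiniteColimits (kerQ p K ⋙ (QCohCat.isQCoh P).ι) :=
    comp_preservesFiniteColimits (QCohCat.isQCoh X).ι
      (Scheme.Modules.pullback p ⋙ DCoh.tensorRightMod K)
  exact ⟨fun J _ _ => preservesColimitsOfShape_of_reflects_of_preserves (kerQ p K) (QCohCat.isQCoh P).ι⟩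

end Groth.FunMorKer
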