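import Groth.Agent.S12131
import Groth.Agent.FunMorKer.RightExact
import Groth.Agent.Quot.TwistBC

/-!
# Base change of direct images along affine morphisms, naturally
-/

set_option autoImplicit false

universe u

open CategoryTheory AlgebraicGeometry Scheme.Modules

noncomputable section

namespace Groth.FunMorKer

variable {X S X' S' : Scheme.{u}} {f : X ⟶ S} {g : S' ⟶ S} {g' : X' ⟶ X} {f' : X' ⟶ S'}

/-- The transformation adjoint to the base change map. -/
def preBC (w : g' ≫ f = f' ≫ g) :
    pushforward f ⟶ pullback g' ⋙ pushforward f' ⋙ pushforward g :=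
  Functor.whiskerRight (pullbackPushforwardAdjunction g').unit (pushforward f) ≫
    (Functor.associator _ _ _).hom ≫
      Functor.whiskerLeft (pullback g')
        ((pushforwardComp g' f).hom ≫ (pushforwardCongr w).hom ≫ (pushforwardComp f' g).inv)

/-- The base change map, naturally in the module. -/
def bcNT (w : g' ≫ f = f' ≫ g) : pushforward f ⋙ pullback g ⟶ pullback g' ⋙ pushforward f' where
  app F := ((pullbackPushforwardAdjunction g).homEquiv ((pushforward f).obj F)
    ((pushforward f').obj ((pullback g').obj F))).symm ((preBC w).app F)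
  naturality F G φ := by
    refine ((pullbackPushforwardAdjunction g).homEquiv_naturality_left_symm _ _).symm.trans
      (Eq.trans ?_ ((pullbackPushforwardAdjunction g).homEquiv_naturality_right_symm _ _))
    exact congrArg _ ((preBC w).naturality φ)

theorem isIso_bcNT_app (h : IsPullback g' f' f g) [IsAffineHom f] (F : X.Modules)
    [hF : F.IsQuasicoherent] : IsIso ((bcNT h.w).app F) := by
  have hF' : Coh.IsQCoh F := hF
  have e : (preBC h.w).app F = (pushforward f).map ((pullbackPushforwardAdjunction g').unit.app F) ≫
        (pushforwardComp g' f).hom.app ((pullback g').obj F) ≫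
        (pushforwardCongr h.w).hom.app ((pullback g').obj F) ≫
        (pushforwardComp f' g).inv.app ((pullback g').obj F) :=
    by simp [preBC]
  change IsIso (((pullbackPushforwardAdjunction g).homEquiv _ _).symm ((preBC h.w).app F))
  rw [e]
  exact @Groth.Agent.S12131.result X S X' S' f g g' f' h _ F hF'

/-- Base change for affine morphisms on quasi-coherent modules. -/
def bcIso (h : IsPullback g' f' f g) [IsAffineHom f] :
    (QCohCat.isQCoh X).ι ⋙ pushforward f ⋙ pullback g ≅
      (QCohCat.isQCoh X).ι ⋙ pullback g' ⋙ pushforward f' :=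
  haveI : ∀ M, IsIso ((Functor.whiskerLeft (QCohCat.isQCoh X).ι (bcNT h.w)).app M) := fun M =>
    haveI : M.obj.IsQuasicoherent := M.2
    isIso_bcNT_app h M.obj
  haveI := NatIso.isIso_of_isIso_app (Functor.whiskerLeft (QCohCat.isQCoh X).ι (bcNT h.w))
  asIso (Functor.whiskerLeft (QCohCat.isQCoh X).ι (bcNT h.w))

end Groth.FunMorKer
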