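import Groth.Agent.FunMorKer.RightExact
import Groth.Agent.CohBase.FlatBC.Exact
import Groth.Agent.Misc4.PushSum
import Groth.Agent.EtaleDeep.Eps.Compare
import Groth.Agent.PicAux.TensorLift
import Groth.Agent.PicAux.Powers

/-!
# Exactness of kernel functors with flat acyclic kernel
-/

set_option autoImplicit false

universe u

open CategoryTheory CategoryTheory.Limits AlgebraicGeometry
open Groth.PicAux

noncomputable section

namespace Groth.FunMorKer

variable {X Y P : Scheme.{u}}

theorem tensorBi_obj_map_tmulSec (K : P.Modules) {A B : P.Modules} (φ : A ⟶ B) (W : P.Opens)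
    (l : Γ(K, W)) (a : Γ(A, W)) :
    (((DCoh.tensorBi (X := P)).obj K).map φ).app W (tmulSec l a : Γ(CohB1.tensorMod K A, W)) =
      (tmulSec l (φ.app W a) : Γ(CohB1.tensorMod K B, W)) := by
  rw [KoszTw.tensorBi_obj_map]
  exact (tensorMap_app_tmulSec (𝟙 K) φ W l a).trans rfl

/-- `K ⊗ -` is `- ⊗ K`. -/
def swapIso (K : P.Modules) :
    (DCoh.tensorBi (X := P)).obj K ≅ DCoh.tensorRightMod K :=
  NatIso.ofComponents (fun A => (exists_braiding K A).choose) fun {A B} φ => by
    refine tensor_hom_ext (L := K) (M := A) fun W l a => ?_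
    exact ((congrArg _ (tensorBi_obj_map_tmulSec K φ W l a)).trans
      ((exists_braiding K B).choose_spec W l (φ.app W a))).trans
      (((congrArg _ ((exists_braiding K A).choose_spec W l a)).trans
        (tensorRightMod_map_tmulSec K φ W a l)).symm)

variable (p : P ⟶ X) (q : P ⟶ Y) (K : P.Modules)

theorem exact_pull_tensor (hK : FlatMod.IsFlatOver p K) {T : ShortComplex X.Modules} (hT : T.Exact) :
    (T.map (Scheme.Modules.pullback p ⋙ DCoh.tensorRightMod K)).Exact :=
  ShortComplex.exact_of_iso (T.mapNatIso (Functor.isoWhiskerLeft (Scheme.Modules.pullback p) (swapIso K)))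
    (Groth.CohBase.FlatBC.exact_tPull p K hK hT)

theorem preservesFiniteLimits_kerQ [K.IsQuasicoherent] (hK : FlatMod.IsFlatOver p K) :
    PreservesFiniteLimits (kerQ p K) := by
  have : PreservesColimitsOfSize.{u, u} (Scheme.Modules.pullback p) :=
    (Scheme.Modules.pullbackPushforwardAdjunction p).leftAdjoint_preservesColimits
  have : (Scheme.Modules.pullback p).Additive :=
    (Scheme.Modules.pullbackPushforwardAdjunction p).left_adjoint_additive
  have hex : ∀ S : ShortComplex X.Modules, S.Exact →
      (S.map (Scheme.Modules.pullback p ⋙ DCoh.tensorRightMod K)).Exact :=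
    fun S hS => exact_pull_tensor p K hK hS
  obtain ⟨_, _⟩ : PreservesFiniteLimits (Scheme.Modules.pullback p ⋙ DCoh.tensorRightMod K) ∧
      PreservesFiniteColimits (Scheme.Modules.pullback p ⋙ DCoh.tensorRightMod K) :=
    ((Functor.exact_tfae (Scheme.Modules.pullback p ⋙ DCoh.tensorRightMod K)).out 1 3).1 hex
  have : PreservesFiniteLimits (kerQ p K ⋙ (QCohCat.isQCoh P).ι) :=
    comp_preservesFiniteLimits (QCohCat.isQCoh X).ι
      (Scheme.Modules.pullback p ⋙ DCoh.tensorRightMod K)
  exact ⟨fun J _ _ => preservesLimitsOfShape_of_reflects_of_preserves (kerQ p K) (QCohCat.isQCoh P).ι⟩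

theorem preservesColimitsOfShape_discrete_push' (q : P ⟶ Y) [QuasiCompact q] (J : Type u) :
    PreservesColimitsOfShape (Discrete J) (Scheme.Modules.pushforward q) := by
  refine ⟨fun {D} => ?_⟩
  suffices h : PreservesColimit (Discrete.functor (D.obj ∘ Discrete.mk)) (Scheme.Modules.pushforward q) from
    @preservesColimit_of_iso_diagram _ _ _ _ _ _ _ D _ Discrete.natIsoFunctor.symm h
  have := Groth.Misc4.PushSum.isIso_sigmaComparison q (D.obj ∘ Discrete.mk)
  exact PreservesCoproduct.of_iso_comparison _ _

end Groth.FunMorKer
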