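import Groth.Agent.FunMorKer.Projection
import Groth.Agent.PicAux.PushPull
import Groth.Agent.PicAux.Powers
import Groth.Agent.Ega2Proj.PushColim
import Groth.Agent.QCohMod.QCQS
import Groth.Agent.QCohMod.QCohCatAbelian
import Groth.Agent.Misc10.SymZeta.ProdQuot
import Mathlib.AlgebraicGeometry.Morphisms.Separated
import Mathlib.AlgebraicGeometry.Morphisms.ClosedImmersion

/-!
# Sums of functions on intersections in separated schemes, sections of tensors with a generator
-/

set_option autoImplicit false

universe u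

open CategoryTheory CategoryTheory.Limits AlgebraicGeometry TensorProduct Groth.PicAux

noncomputable section

namespace Groth.FunMorKer

/-- A pushout of rings is additively generated by products. -/
theorem closure_mul_of_isPushout {A B C D : CommRingCat.{u}} {f : A ⟶ B} {g : A ⟶ C} {i : B ⟶ D}
    {j : C ⟶ D} (h : IsPushout f g i j) (d : D) :
    d ∈ AddSubgroup.closure {x : D | ∃ (b : B) (c : C), x = i b * j c} := by
  let S : Subring D := Subring.closure (Set.range i.hom ∪ Set.range j.hom)
  let i' : B ⟶ CommRingCat.of S := CommRingCat.ofHom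
    (i.hom.codRestrict S fun b => Subring.subset_closure (Or.inl ⟨b, rfl⟩))
  let j' : C ⟶ CommRingCat.of S := CommRingCat.ofHom
    (j.hom.codRestrict S fun c => Subring.subset_closure (Or.inr ⟨c, rfl⟩))
  have hw : f ≫ i' = g ≫ j' := by
    ext a
    exact congr($(h.w) a)
  let s : CommRingCat.of S ⟶ D := CommRingCat.ofHom S.subtype
  have hs : h.desc i' j' hw ≫ s = 𝟙 D :=
    h.hom_ext (by rw [h.inl_desc_assoc]; ext b; rfl) (by rw [h.inr_desc_assoc]; ext c; rfl)
  have hd : d ∈ S := by
    have e : ((h.desc i' j' hw d : S) : D) = d := congr($hs d)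
    exact e ▸ (h.desc i' j' hw d : S).2
  induction hd using Subring.closure_induction with
  | mem x hx =>
    rcases hx with ⟨b, rfl⟩ | ⟨c, rfl⟩
    · exact AddSubgroup.subset_closure ⟨b, 1, by simp⟩
    · exact AddSubgroup.subset_closure ⟨1, c, by simp⟩
  | zero => exact zero_mem _
  | one => exact AddSubgroup.subset_closure ⟨1, 1, by simp⟩
  | add x y _ _ hx hy => exact add_mem hx hy
  | neg x _ hx => exact neg_mem hx
  | mul x y hx' hy' hx hy =>
    clear hx' hy'
    induction hx using AddSubgroup.closure_induction with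
    | mem x hx =>
      obtain ⟨b, c, rfl⟩ := hx
      induction hy using AddSubgroup.closure_induction with
      | mem y hy =>
        obtain ⟨b', c', rfl⟩ := hy
        exact AddSubgroup.subset_closure ⟨b * b', c * c', by simp only [map_mul]; ring⟩
      | zero => simp
      | add y z _ _ hy hz => rw [mul_add]; exact add_mem hy hz
      | neg y _ hy => rw [mul_neg]; exact neg_mem hy
    | zero => simp
    | add x z _ _ hx hz => rw [add_mul]; exact add_mem hx hz
    | neg x _ hx => rw [neg_mul]; exact neg_mem hx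

variable {X : Scheme.{u}}

/-- On a scheme separated over an affine scheme the functions on the intersection of two affine
opens are sums of products of functions on the two opens. -/
theorem inf_mem_closure {S : Scheme.{u}} [IsAffine S] (f : X ⟶ S) [IsSeparated f] {W U : X.Opens}
    (hW : IsAffineOpen W) (hU : IsAffineOpen U) (t : Γ(X, W ⊓ U)) :
    t ∈ AddSubgroup.closure {x : Γ(X, W ⊓ U) | ∃ (a : Γ(X, W)) (b : Γ(X, U)),
      x = resX X inf_le_left a * resX X inf_le_right b} := by
  haveI : IsAffine W.toScheme := hW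
  haveI : IsAffine U.toScheme := hU
  haveI : IsAffine (pullback (W.ι ≫ f) (U.ι ≫ f)) := .of_isPullback (IsPullback.of_hasPullback (W.ι ≫ f) (U.ι ≫ f))
  let m : (W ⊓ U).toScheme ⟶ pullback (W.ι ≫ f) (U.ι ≫ f) :=
    pullback.lift (X.homOfLE inf_le_left) (X.homOfLE inf_le_right) (by simp)
  haveI : IsClosedImmersion m := by
    have h := IsOpenImmersion.isPullback (X.homOfLE (inf_le_left : W ⊓ U ≤ W))
      (X.homOfLE (inf_le_right : W ⊓ U ≤ U)) W.ι U.ι (by simp) (by ext; simp)
    have hm : m = h.isoPullback.hom ≫ pullback.mapDesc W.ι U.ι f := by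
      apply pullback.hom_ext
      · erw [Category.assoc, pullback.lift_fst, pullback.lift_fst, Category.comp_id]
        exact h.isoPullback_hom_fst.symm
      · erw [Category.assoc, pullback.lift_snd, pullback.lift_snd, Category.comp_id]
        exact h.isoPullback_hom_snd.symm
    rw [hm]
    infer_instance
  haveI : IsAffineHom m := inferInstance
  have hm : Function.Surjective m.appTop :=
    Scheme.Hom.app_surjective m ⊤ (isAffineOpen_top _)
  obtain ⟨q, hq⟩ := hm ((W ⊓ U).topIso.inv t)
  have hclos := closure_mul_of_isPushout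
    (isPushout_appTop_of_isPullback (IsPullback.of_hasPullback (W.ι ≫ f) (U.ι ≫ f))) q
  let φ : Γ(pullback (W.ι ≫ f) (U.ι ≫ f), ⊤) →+* Γ(X, W ⊓ U) := ((W ⊓ U).topIso.hom.hom).comp m.appTop.hom
  have hφ : φ q = t := by
    simp only [φ, RingHom.comp_apply]
    rw [show m.appTop.hom q = _ from hq]
    exact congr($((W ⊓ U).topIso.inv_hom_id) t)
  have h1 : ∀ a, φ ((pullback.fst (W.ι ≫ f) (U.ι ≫ f)).appTop a) =
      resX X inf_le_left (W.topIso.hom a) := fun a => by
    have e : (pullback.fst (W.ι ≫ f) (U.ι ≫ f)).appTop ≫ m.appTop ≫ (W ⊓ U).topIso.hom =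
        W.topIso.hom ≫ X.presheaf.map (homOfLE (inf_le_left : W ⊓ U ≤ W)).op := by
      rw [← Scheme.Hom.comp_appTop_assoc]
      simp only [m, pullback.lift_fst]
      simp [Scheme.Hom.appTop, Scheme.homOfLE_app, Scheme.Opens.topIso]
      exact (X.presheaf.map_comp _ _).symm.trans
        ((congrArg X.presheaf.map (Subsingleton.elim _ _)).trans (X.presheaf.map_comp _ _))
    exact congr($e a)
  have h2 : ∀ a, φ ((pullback.snd (W.ι ≫ f) (U.ι ≫ f)).appTop a) =
      resX X inf_le_right (U.topIso.hom a) := fun a => by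
    have e : (pullback.snd (W.ι ≫ f) (U.ι ≫ f)).appTop ≫ m.appTop ≫ (W ⊓ U).topIso.hom =
        U.topIso.hom ≫ X.presheaf.map (homOfLE (inf_le_right : W ⊓ U ≤ U)).op := by
      rw [← Scheme.Hom.comp_appTop_assoc]
      simp only [m, pullback.lift_snd]
      simp [Scheme.Hom.appTop, Scheme.homOfLE_app, Scheme.Opens.topIso]
      exact (X.presheaf.map_comp _ _).symm.trans
        ((congrArg X.presheaf.map (Subsingleton.elim _ _)).trans (X.presheaf.map_comp _ _))
    exact congr($e a)
  rw [← hφ]
  have := AddSubgroup.mem_map_of_mem φ.toAddMonoidHom hclos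
  rw [AddMonoidHom.map_closure] at this
  refine AddSubgroup.closure_mono ?_ this
  rintro _ ⟨_, ⟨a, b, rfl⟩, rfl⟩
  refine ⟨W.topIso.hom a, U.topIso.hom b, ?_⟩
  change φ _ = _
  rw [map_mul, h1, h2]

/-- Restriction of sections of a direct image between opens with equal preimages. -/
theorem bijective_res_push {Y : Scheme.{u}} (g : Y ⟶ X) (N : Y.Modules) {V W : X.Opens}
    (h : W ≤ V) (e : g ⁻¹ᵁ V ≤ g ⁻¹ᵁ W) :
    Function.Bijective (res ((Scheme.Modules.pushforward g).obj N) h) :=
  Function.bijective_iff_has_inverse.2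
    ⟨fun x => pushSec g N (res N e (unpush g x)), fun x => (res_res (M := N) _ _ _).trans (res_self _ _),
      fun x => (res_res (M := N) _ _ _).trans (res_self _ _)⟩

/-- Tensoring with a generator is bijective on sections over affine opens. -/
theorem bijective_tmulSec {L K : X.Modules} [L.IsQuasicoherent] [K.IsQuasicoherent] {O : X.Opens}
    (hO : IsAffineOpen O) {e : Γ(L, O)} (he : Function.Bijective fun a : Γ(X, O) => a • e) :
    Function.Bijective fun k : Γ(K, O) => (tmulSec e k : Γ(CohB1.tensorMod L K, O)) := by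
  let Ψ : Γ(K, O) ≃ₗ[Γ(X, O)] Γ(L, O) ⊗[Γ(X, O)] Γ(K, O) :=
    (TensorProduct.lid _ _).symm ≪≫ₗ
      TensorProduct.congr (LinearEquiv.ofBijective (LinearMap.toSpanSingleton _ _ e) he)
        (LinearEquiv.refl _ _)
  have h : (fun k : Γ(K, O) => (tmulSec e k : Γ(CohB1.tensorMod L K, O))) =
      (ptenUnit L K O) ∘ Ψ := funext fun k => by
    simp [Ψ, tmulSec]
  rw [h]
  exact (Groth.QCohMod.ptenUnit_bijective hO).comp Ψ.bijective

/-- The unit section generates the direct image of the structure sheaf of an open. -/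
theorem gen_push_one (U : X.Opens) :
    Gen ((Scheme.Modules.pushforward U.ι).obj (Coh.structureModule U.toScheme)) U
      (pushSec U.ι _ (oneSec U.toScheme (U.ι ⁻¹ᵁ U))) := fun V hV => by
  haveI : IsIso (U.ι.app V) := U.ι.isIso_app V (by simpa using hV)
  have h : (fun a : Γ(X, V) => (a • res ((Scheme.Modules.pushforward U.ι).obj
      (Coh.structureModule U.toScheme)) hV (pushSec U.ι _ (oneSec U.toScheme (U.ι ⁻¹ᵁ U))) :
        Γ((Scheme.Modules.pushforward U.ι).obj (Coh.structureModule U.toScheme), V))) =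
      fun a => pushSec U.ι _ ((U.ι.app V a) • oneSec U.toScheme (U.ι ⁻¹ᵁ V)) := funext fun a =>
    congrArg (fun z : Γ(Coh.structureModule U.toScheme, U.ι ⁻¹ᵁ V) =>
      (U.ι.app V a) • z) (res_oneSec (U.ι.preimage_mono hV))
  rw [h]
  exact (show Function.Bijective (pushSec U.ι (Coh.structureModule U.toScheme) (U := V)) from
      Function.bijective_id).comp
    ((by simpa using gen_oneSec (U.ι ⁻¹ᵁ V) _ le_rfl : Function.Bijective
      fun r : Γ(U.toScheme, U.ι ⁻¹ᵁ V) => r • oneSec U.toScheme (U.ι ⁻¹ᵁ V)).comp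
      (ConcreteCategory.bijective_of_isIso (U.ι.app V)))

/-- The structure module of an affine open is generated by its global sections. -/
theorem mem_span_push_unit {S : Scheme.{u}} [IsAffine S] (f : X ⟶ S) [IsSeparated f]
    {U W : X.Opens} (hU : IsAffineOpen U) (hW : IsAffineOpen W)
    (t : Γ((Scheme.Modules.pushforward U.ι).obj (Coh.structureModule U.toScheme), W)) :
    t ∈ Submodule.span Γ(X, W) (Set.range fun r :
      Γ((Scheme.Modules.pushforward U.ι).obj (Coh.structureModule U.toScheme), ⊤) =>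
        res ((Scheme.Modules.pushforward U.ι).obj (Coh.structureModule U.toScheme))
          (le_top : W ≤ ⊤) r) := by
  let J := (Scheme.Modules.pushforward U.ι).obj (Coh.structureModule U.toScheme)
  let one : Γ(J, U) := pushSec U.ι _ (oneSec U.toScheme (U.ι ⁻¹ᵁ U))
  have hone := gen_push_one U
  have hpre : ∀ V : X.Opens, U.ι ⁻¹ᵁ V ≤ U.ι ⁻¹ᵁ (V ⊓ U) := fun V x hx => ⟨hx, x.2⟩
  have hres := bijective_res_push U.ι (Coh.structureModule U.toScheme) (inf_le_left : W ⊓ U ≤ W)
    (hpre W)
  have hglob := bijective_res_push U.ι (Coh.structureModule U.toScheme) (le_top : U ≤ ⊤)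
    (fun x _ => x.2)
  obtain ⟨c, hc⟩ := (hone (W ⊓ U) inf_le_right).2 (res J inf_le_left t)
  have hclos := inf_mem_closure f hW hU c
  suffices h : ∀ c ∈ AddSubgroup.closure {x : Γ(X, W ⊓ U) | ∃ (a : Γ(X, W)) (b : Γ(X, U)),
      x = resX X inf_le_left a * resX X inf_le_right b},
      ∃ t' ∈ Submodule.span Γ(X, W) (Set.range fun r : Γ(J, ⊤) => res J (le_top : W ≤ ⊤) r),
        res J (inf_le_left : W ⊓ U ≤ W) t' = c • res J inf_le_right one by
    obtain ⟨t', ht', he⟩ := h c hclos
    rwa [← hres.1 (he.trans hc)]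
  intro c hc
  induction hc using AddSubgroup.closure_induction with
  | mem c hc =>
    obtain ⟨a, b, rfl⟩ := hc
    obtain ⟨r, hr⟩ := hglob.2 (b • one)
    refine ⟨a • res J le_top r, Submodule.smul_mem _ _ (Submodule.subset_span ⟨r, rfl⟩), ?_⟩
    rw [res_smul, res_res, mul_smul]
    refine congrArg _ (Eq.trans ?_ (res_smul (M := J) inf_le_right b one))
    rw [← hr]
    exact (res_res (M := J) _ _ _).symm
  | zero => exact ⟨0, zero_mem _, by rw [res_zero, zero_smul]⟩
  | add c d _ _ hc hd =>
    obtain ⟨s, hs, es⟩ := hc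
    obtain ⟨t', ht, et⟩ := hd
    exact ⟨s + t', add_mem hs ht, by rw [res_add, es, et, add_smul]⟩
  | neg c _ hc =>
    obtain ⟨s, hs, es⟩ := hc
    refine ⟨-s, neg_mem hs, ?_⟩
    rw [neg_smul, ← es]
    exact eq_neg_of_add_eq_zero_left (by rw [← res_add, neg_add_cancel, res_zero])

end Groth.FunMorKer
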