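import Groth.Agent.FunMorKer.BaseChange
import Groth.Agent.LocFree.ExtPullback
import Groth.Agent.LocFree.AffineHom

/-!
# The projection formula along affine morphisms, naturally
-/

set_option autoImplicit false

universe u

open CategoryTheory AlgebraicGeometry Scheme.Modules TensorProduct Groth.PicAux

noncomputable section

namespace Groth.FunMorKer

variable {X Y : Scheme.{u}} (g : X ⟶ Y) (K : Y.Modules)

theorem exists_projMap (N : X.Modules) :
    ∃ θ : CohB1.tensorMod ((pushforward g).obj N) K ⟶
        (pushforward g).obj (CohB1.tensorMod N ((pullback g).obj K)),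
      ∀ W a b, θ.app W (tmulSec (pushSec g N a) b) = tmulSec a (pullSec g K b) := by
  obtain ⟨θ, hθ⟩ := exists_tensor_lift (L := (pushforward g).obj N) (M := K)
    (P := (pushforward g).obj (CohB1.tensorMod N ((pullback g).obj K)))
    (fun W => LinearMap.mk₂ Γ(Y, W)
      (fun a b => (tmulSec (unpush g a) (pullSec g K b) :
        Γ(CohB1.tensorMod N ((pullback g).obj K), g ⁻¹ᵁ W)))
      (fun a a' b => tmulSec_add_left _ _ _)
      (fun r a b => tmulSec_smul_left _ _ _)
      (fun a b b' => (congrArg (tmulSec (unpush g a)) (map_add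
        (((pullbackPushforwardAdjunction g).unit.app K).app W).hom b b')).trans
          (tmulSec_add_right _ _ _))
      (fun r a b => (congrArg (tmulSec (unpush g a)) (pullSec_smul g K r b)).trans
          (tmulSec_smul_right _ _ _)))
    (fun W W' h a b => by
      simp only [LinearMap.mk₂_apply]
      rw [← res_pullSec]
      exact res_tmulSec _ _ _)
  exact ⟨θ, fun W a b => hθ W (pushSec g N a) b⟩

theorem bijective_cancel {A B M₀ M K₀ G : Type u} [CommRing A] [CommRing B] [Algebra A B]
    [AddCommGroup M₀] [Module A M₀] [AddCommGroup M] [Module B M] [AddCommGroup K₀] [Module A K₀]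
    [AddCommGroup G] [Module A G] [Module B G] [IsScalarTower A B G]
    (e : M₀ ≃+ M) (he : ∀ (r : A) m, e (r • m) = algebraMap A B r • e m)
    (c : K₀ →ₗ[A] G) (hc : IsBaseChange B c)
    (Φ : M₀ ⊗[A] K₀ →+ M ⊗[B] G) (hΦ : ∀ m k, Φ (m ⊗ₜ k) = e m ⊗ₜ c k) : Function.Bijective Φ := by
  let _ : Module A M := Module.compHom M (algebraMap A B)
  haveI : IsScalarTower A B M := IsScalarTower.of_algebraMap_smul fun _ _ => rfl
  let e' : M₀ ≃ₗ[A] M := { e with map_smul' := he }
  let E : M₀ ⊗[A] K₀ ≃+ M ⊗[B] G :=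
    (((TensorProduct.congr e' (LinearEquiv.refl A K₀)).toAddEquiv).trans
      (AlgebraTensorModule.cancelBaseChange A B B M K₀).symm.toAddEquiv).trans
        (TensorProduct.congr (LinearEquiv.refl B M) hc.equiv).toAddEquiv
  have : ∀ z, Φ z = E z := fun z => by
    induction z using TensorProduct.induction_on with
    | zero => simp
    | add p q hp hq => simp [hp, hq]
    | tmul m k => rw [hΦ]; simp [E, e', IsBaseChange.equiv_tmul]
  exact (funext this : (Φ : _ → _) = E) ▸ E.bijective

theorem isIso_projMap [IsAffineHom g] [hK : K.IsQuasicoherent] (N : X.Modules) [N.IsQuasicoherent]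
    (θ : CohB1.tensorMod ((pushforward g).obj N) K ⟶
        (pushforward g).obj (CohB1.tensorMod N ((pullback g).obj K)))
    (hθ : ∀ W a b, θ.app W (tmulSec (pushSec g N a) b) = tmulSec a (pullSec g K b)) : IsIso θ := by
  refine Groth.LocFree.isIso_of_small_affine θ fun x W hx => ?_
  obtain ⟨U, hU, hxU, hUW⟩ := exists_isAffineOpen_mem_and_subset (U := W) (x := x) hx
  refine ⟨U, hU, hxU, hUW, ?_⟩
  haveI := Groth.QCohMod.isQCoh_pushforward N g
  haveI := Groth.QCohMod.isQCoh_pullback_obj g K
  let e : g ⁻¹ᵁ U ≤ g ⁻¹ᵁ U := le_rfl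
  letI := Groth.QCohMod.sectionsAlg g e
  letI : Module Γ(Y, U) Γ((pullback g).obj K, g ⁻¹ᵁ U) :=
    Module.compHom _ (g.appLE U (g ⁻¹ᵁ U) e).hom
  haveI : IsScalarTower Γ(Y, U) Γ(X, g ⁻¹ᵁ U) Γ((pullback g).obj K, g ⁻¹ᵁ U) :=
    IsScalarTower.of_algebraMap_smul fun _ _ => rfl
  let unt := ptenUnit ((pushforward g).obj N) K U
  let unt' := ptenUnit N ((pullback g).obj K) (g ⁻¹ᵁ U)
  have hu : Function.Bijective unt := Groth.QCohMod.ptenUnit_bijective hU
  have hu' : Function.Bijective unt' := Groth.QCohMod.ptenUnit_bijective (hU.preimage g)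
  let E := AddEquiv.ofBijective unt' hu'
  let Φ : PTen ((pushforward g).obj N) K U →+ PTen N ((pullback g).obj K) (g ⁻¹ᵁ U) :=
    E.symm.toAddMonoidHom.comp ((θ.app U).hom.comp unt)
  have hΦ : Function.Bijective Φ := by
    refine bijective_cancel (A := Γ(Y, U)) (B := Γ(X, g ⁻¹ᵁ U)) (M₀ := Γ((pushforward g).obj N, U))
      (M := Γ(N, g ⁻¹ᵁ U)) (AddEquiv.refl _) (fun r m => ?_) _
      (Groth.LocFree.isBaseChange_pullSecₗ g K e hU (hU.preimage g)) Φ fun m k => ?_
    · change g.app U r • (unpush g m) = g.appLE U (g ⁻¹ᵁ U) e r • unpush g m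
      rw [Scheme.Hom.appLE_eq_app]
    · refine E.injective ((E.apply_symm_apply _).trans ?_)
      refine (hθ U (unpush g m) k).trans ?_
      change unt' (unpush g m ⊗ₜ pullSec g K k) =
        unt' (unpush g m ⊗ₜ Groth.PicAux.res _ e (pullSec g K k))
      rw [res_self]
  have h1 : (θ.app U : _ → _) ∘ unt = E ∘ Φ := funext fun z => (E.apply_symm_apply _).symm
  exact (Function.Bijective.of_comp_iff _ hu).1 (h1 ▸ E.bijective.comp hΦ)

/-- The projection formula on quasi-coherent modules. -/
def projIso [IsAffineHom g] [K.IsQuasicoherent] :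
    (QCohCat.isQCoh X).ι ⋙ pushforward g ⋙ DCoh.tensorRightMod K ≅
      (QCohCat.isQCoh X).ι ⋙ DCoh.tensorRightMod ((pullback g).obj K) ⋙ pushforward g :=
  NatIso.ofComponents
    (fun N =>
      haveI : N.obj.IsQuasicoherent := N.2
      @asIso _ _ _ _ (exists_projMap g K N.obj).choose
        (isIso_projMap g K N.obj _ (exists_projMap g K N.obj).choose_spec))
    fun {N N'} φ => by
      refine tensor_hom_ext (L := (pushforward g).obj N.obj) (M := K) fun W a b => ?_
      have hN := (exists_projMap g K N.obj).choose_spec W (unpush g a) b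
      have hN' := (exists_projMap g K N'.obj).choose_spec W (φ.hom.app (g ⁻¹ᵁ W) (unpush g a)) b
      have h1 := tensorRightMod_map_tmulSec K ((pushforward g).map φ.hom) W a b
      have h2 := tensorRightMod_map_tmulSec ((pullback g).obj K) φ.hom (g ⁻¹ᵁ W) (unpush g a)
        (pullSec g K b)
      change (exists_projMap g K N'.obj).choose.app W
          (((DCoh.tensorRightMod K).map ((pushforward g).map φ.hom)).app W
            (tmulSec a b : Γ(CohB1.tensorMod ((pushforward g).obj N.obj) K, W))) =
        ((DCoh.tensorRightMod ((pullback g).obj K)).map φ.hom).app (g ⁻¹ᵁ W)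
          ((exists_projMap g K N.obj).choose.app W (tmulSec a b))
      refine ((congrArg _ h1).trans hN').trans ?_
      exact (h2.symm).trans (congrArg _ hN.symm)

end Groth.FunMorKer
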